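import Cfsg.Agent.Spor.Chk

set_option autoImplicit false
set_option maxRecDepth 100000000
set_option Elab.async false
noncomputable section

namespace Cfsg.Agent.Spor.P25

def m0_0 : Nat := nat_lit 0x6ad
def m0_1 : Nat := nat_lit 0x44007d
def m0_2 : Nat := nat_lit 0x1010d00
def m0_3 : Nat := nat_lit 0x11100120
def m0_4 : Nat := nat_lit 0x1444441
def m0_5 : Nat := nat_lit 0x1122100
def m0_6 : Nat := nat_lit 0x10a0000
def m0_7 : Nat := nat_lit 0x450004
def m0_8 : Nat := nat_lit 0x63a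
def n0 : Net := Net.cons 16 m0_0 (Net.cons 8 m0_1 (Net.cons 4 m0_2 (Net.cons 2 m0_3 (Net.cons 1 m0_4 (Net.cons 2 m0_5 (Net.cons 4 m0_6 (Net.cons 8 m0_7 (Net.cons 16 m0_8 (Net.nil)))))))))

def m1_0 : Nat := nat_lit 0x4225
def m1_1 : Nat := nat_lit 0x1900bd
def m1_2 : Nat := nat_lit 0x1080102
def m1_3 : Nat := nat_lit 0x2111000
def m1_4 : Nat := nat_lit 0x1144044
def m1_5 : Nat := nat_lit 0x101021
def m1_6 : Nat := nat_lit 0x80103
def m1_7 : Nat := nat_lit 0x5a0001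
def m1_8 : Nat := nat_lit 0x4219
def n1 : Net := Net.cons 16 m1_0 (Net.cons 8 m1_1 (Net.cons 4 m1_2 (Net.cons 2 m1_3 (Net.cons 1 m1_4 (Net.cons 2 m1_5 (Net.cons 4 m1_6 (Net.cons 8 m1_7 (Net.cons 16 m1_8 (Net.nil)))))))))

def ip1 : List Nat := [0x19f1e98, 0x11999d4, 0x606020]
def l1 : Let := ⟨0, false, 0x1ffffff, 0x22, [0x197f708, 0x119f9f4, 0x600000]⟩

def ip2 : List Nat := [0x1fbd990, 0xa68708]
def l2 : Let := ⟨1, false, 0x1ffffff, 0x20a144, [0x15f5c90, 0x268708, 0x800000]⟩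

def ip3 : List Nat := [0x20a062, 0x71f8d0, 0x18c0400]
def l3 : Let := ⟨0, true, 0x1ffffff, 0x860608, [0x7d9022, 0x7dfcd0, 0x1800000]⟩

def ip4 : List Nat := [0x171b144, 0x1d71200]
def l4 : Let := ⟨1, true, 0x1ffffff, 0x1595890, [0xb4a144, 0xd71200, 0x1000000]⟩

def NT : List Net := [n0, n1]
def LT : List Let := [⟨0, false, 0, 0, []⟩, l1, l2, l3, l4]
def T : Tab := ⟨NT, LT⟩
def EX : List (List Nat) := [[], [0], [2], [1], [3]]
def RL : List (List Nat) := [[0, 0, 0, 0, 0], [2, 2, 2, 2, 2], [0, 2, 1, 3]]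
def XL : List (List Nat) := []
def BW : List (List Nat) := []
def IV : Nat := 0x201040300
def L : List Nat := [1, 2, 3, 4]
def gs : List Nat := [1, 2]
def base : List Nat := []

end Cfsg.Agent.Spor.P25
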